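import Groth.Agent.FrobLCI.Lech.Superficial
import Groth.Agent.FrobLCI.KEuler.Limit

/-!
Lech's inequality over an infinite residue field.
-/

set_option autoImplicit false
set_option linter.style.haveILetI false
set_option linter.unusedSectionVars false

universe u

open IsLocalRing Filter Polynomial Topology
open Groth.Ega41Dim (hs IsHSPoly lenQ lenQ_map lenQ_top lenQ_add lenQ_eq_zero lenQ_ne_top length_quot_ne_top exists_isHSPoly)

namespace Groth.Lech

variable {O : Type u} [CommRing O] [IsNoetherianRing O] [IsLocalRing O]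

/-- `J : x` -/
def col (J : Ideal O) (x : O) : Ideal O := Submodule.comap (LinearMap.mulLeft O x) J

theorem mem_col {J : Ideal O} {x a : O} : a ∈ col J x ↔ x * a ∈ J := Iff.rfl

theorem le_col (J : Ideal O) (x : O) : J ≤ col J x := fun _ ha => J.mul_mem_left x ha

theorem col_col (J : Ideal O) (x : O) (j : ℕ) : col (col J (x ^ j)) x = col J (x ^ (j + 1)) := by
  ext a
  rw [mem_col, mem_col, mem_col, ← mul_assoc, pow_succ]

theorem col_pow_le (I : Ideal O) (x : O) (i : ℕ) : ∀ n, col I (x ^ i) ^ n ≤ col (I ^ n) (x ^ (i * n))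
  | 0 => fun a _ => by rw [mem_col, pow_zero, Ideal.one_eq_top]; exact Submodule.mem_top
  | n + 1 => by
    rw [pow_succ, Ideal.mul_le]
    intro a ha b hb
    have h := col_pow_le I x i n ha
    rw [mem_col] at h hb ⊢
    rw [show x ^ (i * (n + 1)) * (a * b) = (x ^ (i * n) * a) * (x ^ i * b) by ring, pow_succ]
    exact Ideal.mul_mem_mul h hb

/-- the length of `O ⧸ J` -/
noncomputable def len (J : Ideal O) : ℕ := (Module.length O (O ⧸ J)).toNat

/-- an ideal containing a power of the maximal ideal -/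
def Prim (J : Ideal O) : Prop := ∃ N, maximalIdeal O ^ N ≤ J

theorem Prim.mono {J J' : Ideal O} (h : Prim J) (hle : J ≤ J') : Prim J' := by
  obtain ⟨N, hN⟩ := h
  exact ⟨N, hN.trans hle⟩

theorem isArtinian_max : IsArtinianRing (O ⧸ maximalIdeal O) :=
  Groth.Ega41Dim.isArtinianRing_quotient_of_forall_isMaximal _ fun q hq hle =>
    (IsLocalRing.maximalIdeal.isMaximal O).eq_of_le hq.ne_top hle ▸ IsLocalRing.maximalIdeal.isMaximal O

theorem Prim.isArtinian {J : Ideal O} (h : Prim J) : IsArtinianRing (O ⧸ J) := by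
  obtain ⟨N, hN⟩ := h
  exact Groth.Ega41Dim.isArtinianRing_quotient_of_forall_isMaximal _ fun q hq hle =>
    (IsLocalRing.maximalIdeal.isMaximal O).eq_of_le hq.ne_top
      (fun a ha => hq.mem_of_pow_mem N (hle (hN (Ideal.pow_mem_pow ha N)))) ▸ IsLocalRing.maximalIdeal.isMaximal O

theorem Prim.length_ne_top {J : Ideal O} (h : Prim J) : Module.length O (O ⧸ J) ≠ ⊤ := by
  haveI := h.isArtinian
  rw [← lenQ_top]
  exact lenQ_ne_top J (le_of_eq (by rw [smul_eq_mul, Ideal.mul_top]))

theorem Prim.pow {J : Ideal O} (h : Prim J) (n : ℕ) : Prim (J ^ n) := by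
  obtain ⟨N, hN⟩ := h
  exact ⟨N * n, by rw [pow_mul]; exact Ideal.pow_right_mono hN n⟩

theorem len_anti {J J' : Ideal O} (h : Prim J) (hle : J ≤ J') : len J' ≤ len J :=
  ENat.toNat_le_toNat (Module.length_le_of_surjective (Submodule.factor hle) (Submodule.factor_surjective _))
    h.length_ne_top

theorem len_top : len (⊤ : Ideal O) = 0 := by
  rw [len, Module.length_eq_zero, ENat.toNat_zero]

theorem hs_eq_len (J : Ideal O) (n : ℕ) : hs J O n = len (J ^ n) :=
  congrArg ENat.toNat (Submodule.quotEquivOfEq _ _ (Ideal.mul_top _)).length_eq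

/-- one step of the filtration by powers of `x` -/
theorem len_step {J : Ideal O} (h : Prim J) (x : O) : len J = len (col J x) + len (J ⊔ Ideal.span {x}) := by
  have e := lenQ_map (LinearMap.mulLeft O x) ⊤ J
  rw [top_inf_eq, lenQ_top, Submodule.map_top,
    show LinearMap.range (LinearMap.mulLeft O x) = Ideal.span {x} by
      ext a; simp [Ideal.mem_span_singleton', mul_comm, eq_comm]] at e
  have e2 := lenQ_add (le_sup_right : J ≤ Ideal.span {x} ⊔ J) (le_top (a := Ideal.span {x} ⊔ J))
  rw [lenQ_top, lenQ_top, ← e, sup_comm] at e2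
  have f1 : Module.length O (O ⧸ Submodule.comap (LinearMap.mulLeft O x) J) ≠ ⊤ := (h.mono (le_col J x)).length_ne_top
  rw [len, len, len, e2, add_comm, ENat.toNat_add f1 (h.mono le_sup_left).length_ne_top]
  rfl

/-- the filtration by powers of `x` -/
theorem len_tele {J : Ideal O} (h : Prim J) (x : O) : ∀ N : ℕ,
    len J = (∑ j ∈ Finset.range N, len (col J (x ^ j) ⊔ Ideal.span {x})) + len (col J (x ^ N))
  | 0 => by
    rw [Finset.range_zero, Finset.sum_empty, zero_add, show col J (x ^ 0) = J by ext a; rw [mem_col, pow_zero, one_mul]]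
  | N + 1 => by
    rw [len_tele h x N, len_step (h.mono (le_col J _)) x, col_col, Finset.sum_range_succ]
    omega

theorem sum_div (g : ℕ → ℕ) {n : ℕ} (hn : 0 < n) : ∀ N : ℕ,
    ∑ j ∈ Finset.range (N * n), g (j / n) = n * ∑ i ∈ Finset.range N, g i
  | 0 => by simp
  | N + 1 => by
    rw [add_mul, one_mul, Finset.sum_range_add, sum_div g hn N, Finset.sum_range_succ, mul_add]
    congr 1
    rw [Finset.sum_congr rfl (fun j hj => by
      rw [show (N * n + j) / n = N by
        rw [Finset.mem_range] at hj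
        rw [mul_comm, Nat.mul_add_div hn, Nat.div_eq_of_lt hj, add_zero]]), Finset.sum_const, Finset.card_range,
      smul_eq_mul]

/-- the inductive estimate -/
theorem len_pow_le {I : Ideal O} (h : Prim I) (x : O) {N : ℕ} (hN : x ^ N ∈ I) {n : ℕ} (hn : 0 < n) :
    len (I ^ n) ≤ n * ∑ i ∈ Finset.range N, len (col I (x ^ i) ^ n ⊔ Ideal.span {x}) := by
  rw [len_tele (h.pow n) x (N * n), ← sum_div (fun i => len (col I (x ^ i) ^ n ⊔ Ideal.span {x})) hn N]
  rw [show col (I ^ n) (x ^ (N * n)) = ⊤ from (Ideal.eq_top_iff_one _).2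
    (by rw [mem_col, mul_one, pow_mul]; exact Ideal.pow_mem_pow hN n), len_top, add_zero]
  refine Finset.sum_le_sum fun j _ => len_anti (((h.mono (le_col I _)).pow n).mono le_sup_left) (sup_le_sup_right ?_ _)
  refine (col_pow_le I x (j / n) n).trans fun a ha => ?_
  rw [mem_col] at ha ⊢
  rw [show x ^ j = x ^ (j - j / n * n) * x ^ (j / n * n) by
    rw [← pow_add, Nat.sub_add_cancel (Nat.div_mul_le_self j n)], mul_assoc]
  exact Ideal.mul_mem_left _ _ ha

theorem len_bar (x : O) (J : Ideal O) [IsLocalRing (O ⧸ Ideal.span {x})] :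
    len (J.map (Ideal.Quotient.mk (Ideal.span {x}))) = len (J ⊔ Ideal.span {x}) := by
  rw [len, len, ← Module.length_eq_of_surjective (S := O) (R := O ⧸ Ideal.span {x}) Ideal.Quotient.mk_surjective,
    sup_comm]
  exact congrArg ENat.toNat (DoubleQuot.quotQuotEquivQuotSupₐ O (Ideal.span {x}) J).toLinearEquiv.length_eq

/-- a power of the maximal ideal in a finite colength ideal -/
theorem pow_len_le {I : Ideal O} (h : Prim I) : maximalIdeal O ^ len I ≤ I := by
  have key : ∀ k, k ≤ len (I ⊔ maximalIdeal O ^ k) ∨ maximalIdeal O ^ k ≤ I := by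
    intro k
    induction k with
    | zero => exact Or.inl (Nat.zero_le _)
    | succ k ih =>
      rcases ih with hk | hk
      · by_cases hle : maximalIdeal O ^ k ≤ I ⊔ maximalIdeal O ^ (k + 1)
        · right
          refine (Ideal.pow_le_pow_right k.le_succ).trans ?_
          refine Submodule.le_of_le_smul_of_le_jacobson_bot (IsNoetherian.noetherian _)
            (IsLocalRing.jacobson_eq_maximalIdeal ⊥ bot_ne_top).ge (hle.trans (sup_le_sup_left ?_ _))
          rw [pow_succ', smul_eq_mul]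
        · left
          have hp : Prim (I ⊔ maximalIdeal O ^ (k + 1)) := h.mono le_sup_left
          have hle' : I ⊔ maximalIdeal O ^ (k + 1) ≤ I ⊔ maximalIdeal O ^ k :=
            sup_le_sup_left (Ideal.pow_le_pow_right k.le_succ) _
          have e := lenQ_add hle' (le_top (a := I ⊔ maximalIdeal O ^ k))
          rw [lenQ_top, lenQ_top] at e
          have h0 : lenQ (I ⊔ maximalIdeal O ^ k) (I ⊔ maximalIdeal O ^ (k + 1)) ≠ 0 := by
            rw [lenQ, Ne, Module.length_eq_zero_iff, Submodule.Quotient.subsingleton_iff,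
              Submodule.comap_subtype_eq_top]
            exact fun hc => hle (le_sup_right.trans hc)
          rw [len] at hk ⊢
          have hfin : lenQ (I ⊔ maximalIdeal O ^ k) (I ⊔ maximalIdeal O ^ (k + 1)) ≠ ⊤ := fun ht => by
            rw [ht, add_top] at e
            exact hp.length_ne_top e
          rw [e, ENat.toNat_add (hp.mono hle').length_ne_top hfin]
          have := ENat.toNat_eq_zero.not.2 (not_or.2 ⟨h0, hfin⟩)
          omega
      · exact Or.inr ((Ideal.pow_le_pow_right k.le_succ).trans hk)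
  rcases key (len I + 1) with hk | hk
  · have := len_anti h (le_sup_left : I ≤ I ⊔ maximalIdeal O ^ (len I + 1))
    omega
  by_contra hcon
  rcases key (len I) with hk2 | hk2
  · have hlt : len (I ⊔ maximalIdeal O ^ len I) < len I := by
      refine lt_of_le_of_ne (len_anti h le_sup_left) fun heq => hcon ?_
      have e := lenQ_add (le_sup_left : I ≤ I ⊔ maximalIdeal O ^ len I) le_top
      rw [lenQ_top, lenQ_top] at e
      have e' := congrArg ENat.toNat e
      have hfin : lenQ (I ⊔ maximalIdeal O ^ len I) I ≠ ⊤ := fun ht => by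
        rw [ht, add_top] at e; exact h.length_ne_top e
      rw [ENat.toNat_add (h.mono le_sup_left).length_ne_top hfin] at e'
      change len I = len _ + _ at e'
      have h0 : lenQ (I ⊔ maximalIdeal O ^ len I) I = 0 :=
        (ENat.toNat_eq_zero.1 (by omega)).resolve_right hfin
      rw [lenQ, Module.length_eq_zero_iff, Submodule.Quotient.subsingleton_iff,
        Submodule.comap_subtype_eq_top] at h0
      exact le_sup_right.trans h0
    omega
  · exact hcon hk2

theorem coeff_le {P Q : ℚ[X]} {d : ℕ} (hP : P.natDegree ≤ d) (hQ : Q.natDegree ≤ d)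
    (h : ∀ᶠ n : ℕ in atTop, P.eval (n : ℚ) ≤ Q.eval (n : ℚ)) : P.coeff d ≤ Q.coeff d := by
  have h' : (P.coeff d : ℝ) ≤ (Q.coeff d : ℝ) :=
    le_of_tendsto_of_tendsto (Groth.KEuler.tendsto_eval_div hP) (Groth.KEuler.tendsto_eval_div hQ)
      (h.mono fun n hn => div_le_div_of_nonneg_right (Rat.cast_le.2 hn) (pow_nonneg (Nat.cast_nonneg _) d))
  exact_mod_cast h'

theorem exists_poly {J : Ideal O} (h : Prim J) : ∃ Q : ℚ[X], IsHSPoly J O Q := by
  haveI := h.isArtinian
  exact exists_isHSPoly J O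

theorem natDegree_le {J : Ideal O} (h : Prim J) {P Q : ℚ[X]} {d : ℕ} (hP : IsHSPoly (maximalIdeal O) O P)
    (hd : P.natDegree ≤ d) (hQ : IsHSPoly J O Q) : Q.natDegree ≤ d := by
  obtain ⟨N, hN⟩ := h
  refine (Groth.Ega41Dim.natDegree_le_of_eventually_le (Q := P.comp (C ((N + 1 : ℕ) : ℚ) * X)) ?_).trans ?_
  · filter_upwards [hQ, (tendsto_id.const_mul_atTop' (Nat.succ_pos N)).eventually hP] with n h1 h2
    rw [eval_comp, eval_mul, eval_C, eval_X, ← h1]
    refine ⟨Nat.cast_nonneg _, ?_⟩
    simp only [id_eq, Nat.succ_eq_add_one, Nat.cast_mul] at h2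
    rw [← h2, hs_eq_len, hs_eq_len, Nat.cast_le]
    refine len_anti ⟨(N + 1) * n, le_rfl⟩ ?_
    rw [pow_mul]
    exact Ideal.pow_right_mono ((Ideal.pow_le_pow_right N.le_succ).trans hN) n
  · rw [natDegree_comp, natDegree_C_mul_X _ (by exact_mod_cast Nat.succ_ne_zero N), mul_one]
    exact hd

theorem coeff_le_low {I : Ideal O} (hI : Prim I) {P Q : ℚ[X]} {d : ℕ} (hd : d ≤ 1)
    (hP : IsHSPoly (maximalIdeal O) O P) (hdeg : P.natDegree ≤ d) (hQ : IsHSPoly I O Q) :
    Q.coeff d ≤ (d.factorial : ℚ) * P.coeff d * (len I : ℚ) := by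
  rcases Nat.eq_zero_or_pos (len I) with hl | hl
  · have h0 : ∀ᶠ n : ℕ in atTop, Q.eval (n : ℚ) ≤ (0 : ℚ[X]).eval (n : ℚ) := by
      filter_upwards [hQ] with n hn
      have htop := pow_len_le hI
      rw [hl, pow_zero, Ideal.one_eq_top, top_le_iff] at htop
      rw [← hn, hs_eq_len, htop, ← Ideal.one_eq_top, one_pow, Ideal.one_eq_top, len_top]
      simp
    have := coeff_le (natDegree_le hI hP hdeg hQ) (d := d) (by simp) h0
    rw [coeff_zero] at this
    rw [hl, Nat.cast_zero, mul_zero]
    exact this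
  have hR : (P.comp (C ((len I : ℕ) : ℚ) * X)).natDegree ≤ d := by
    rw [natDegree_comp, natDegree_C_mul_X _ (by exact_mod_cast hl.ne'), mul_one]; exact hdeg
  have h := coeff_le (natDegree_le hI hP hdeg hQ) hR (by
    filter_upwards [hQ, (tendsto_id.const_mul_atTop' hl).eventually hP] with n h1 h2
    simp only [id_eq, Nat.cast_mul] at h2
    rw [eval_comp, eval_mul, eval_C, eval_X, ← h1, ← h2, hs_eq_len, hs_eq_len, Nat.cast_le]
    refine len_anti ⟨len I * n, le_rfl⟩ ?_
    rw [pow_mul]
    exact Ideal.pow_right_mono (pow_len_le hI) n)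
  rw [comp_C_mul_X_coeff] at h
  refine h.trans ?_
  have hP0 : 0 ≤ P.coeff d := by
    have := coeff_le (d := d) (P := 0) (by simp) hdeg (hP.mono fun n hn => by simp [← hn])
    simpa using this
  interval_cases d
  · simp only [pow_zero, mul_one, Nat.factorial_zero, Nat.cast_one, one_mul]
    exact le_mul_of_one_le_right hP0 (by exact_mod_cast hl)
  · simp

/-- Lech's inequality for the top coefficients -/
theorem lech : ∀ (d : ℕ) (O : Type u) [CommRing O] [IsNoetherianRing O] [IsLocalRing O] [Infinite (ResidueField O)]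
    (P : ℚ[X]), IsHSPoly (maximalIdeal O) O P → P.natDegree ≤ d → ∀ (I : Ideal O), Prim I → ∀ (Q : ℚ[X]),
    IsHSPoly I O Q → Q.coeff d ≤ (d.factorial : ℚ) * P.coeff d * (len I : ℚ) := by
  intro d
  induction d with
  | zero => intro O _ _ _ _ P hP hdeg I hI Q hQ; exact coeff_le_low hI zero_le_one hP hdeg hQ
  | succ d ih =>
    intro O _ _ _ _ P hP hdeg I hI Q hQ
    rcases Nat.eq_zero_or_pos d with rfl | hd
    · exact coeff_le_low hI le_rfl hP hdeg hQ
    obtain ⟨x, hx, c, hc⟩ := exists_superficial (O := O)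
    haveI : Nontrivial (O ⧸ Ideal.span {x}) := Ideal.Quotient.nontrivial_iff.2 fun h =>
      (IsLocalRing.mem_maximalIdeal x).1 hx (Ideal.span_singleton_eq_top.1 h)
    haveI : IsLocalRing (O ⧸ Ideal.span {x}) :=
      IsLocalRing.of_surjective' (Ideal.Quotient.mk _) Ideal.Quotient.mk_surjective
    haveI : IsLocalHom (Ideal.Quotient.mk (Ideal.span {x})) := IsLocalHom.of_surjective _ Ideal.Quotient.mk_surjective
    haveI : Infinite (ResidueField (O ⧸ Ideal.span {x})) :=
      Infinite.of_injective _ (ResidueField.map (Ideal.Quotient.mk (Ideal.span {x}))).injective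
    let mk := Ideal.Quotient.mk (Ideal.span {x})
    have hmax : maximalIdeal (O ⧸ Ideal.span {x}) = (maximalIdeal O).map mk :=
      (IsLocalRing.map_maximalIdeal_of_surjective _ Ideal.Quotient.mk_surjective).symm
    have hprim : ∀ J : Ideal O, Prim J → Prim (J.map mk) := fun J ⟨N, hN⟩ =>
      ⟨N, by rw [hmax, ← Ideal.map_pow]; exact Ideal.map_mono hN⟩
    have hm : Prim (maximalIdeal O) := ⟨1, (pow_one _).le⟩
    obtain ⟨P', hP'⟩ := exists_poly (O := O ⧸ Ideal.span {x}) ⟨1, (pow_one (maximalIdeal _)).le⟩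
    set R : ℚ[X] := P - taylor (-1 : ℚ) P + C (hs (maximalIdeal O) O c : ℚ) with hR
    have hbd : ∀ᶠ n : ℕ in atTop, P'.eval (n : ℚ) ≤ R.eval (n : ℚ) := by
      filter_upwards [hP', hP, (tendsto_sub_atTop_nat 1).eventually hP, eventually_ge_atTop (c + 1)] with n h1 h2 h3 h4
      obtain ⟨j, rfl⟩ : ∃ j, n = j + 1 := ⟨n - 1, by omega⟩
      rw [Nat.add_sub_cancel] at h3
      have e1 := len_step (hm.pow (j + 1)) x
      have e2 : hs (maximalIdeal (O ⧸ Ideal.span {x})) (O ⧸ Ideal.span {x}) (j + 1) =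
          len (maximalIdeal O ^ (j + 1) ⊔ Ideal.span {x}) := by
        rw [hs_eq_len, hmax, ← Ideal.map_pow, len_bar]
      have e3 : len (maximalIdeal O ^ j) ≤ len (col (maximalIdeal O ^ (j + 1)) x) + len (maximalIdeal O ^ c) := by
        set K := col (maximalIdeal O ^ (j + 1)) x with hK
        have hle : maximalIdeal O ^ j ≤ K := fun a ha => by
          rw [hK, mem_col, pow_succ']
          exact Ideal.mul_mem_mul hx ha
        have hinf : K ⊓ maximalIdeal O ^ c ≤ maximalIdeal O ^ j := fun a ha => hc j a ha.2 ha.1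
        have ea := lenQ_add hle (le_top (a := K))
        have eb := lenQ_map (LinearMap.id (R := O) (M := O)) K (maximalIdeal O ^ c)
        rw [Submodule.comap_id, Submodule.map_id] at eb
        have ec : lenQ K (maximalIdeal O ^ j) ≤ Module.length O (O ⧸ maximalIdeal O ^ c) := by
          have h5 := lenQ_add (inf_le_left : K ⊓ maximalIdeal O ^ c ≤ K) le_rfl
          calc lenQ K (maximalIdeal O ^ j) ≤ lenQ K (maximalIdeal O ^ j) + lenQ (maximalIdeal O ^ j) (K ⊓ maximalIdeal O ^ c) :=
                le_self_add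
            _ = lenQ K (K ⊓ maximalIdeal O ^ c) := (lenQ_add hinf hle).symm
            _ = lenQ (K ⊔ maximalIdeal O ^ c) (maximalIdeal O ^ c) := eb
            _ ≤ lenQ ⊤ (K ⊔ maximalIdeal O ^ c) + lenQ (K ⊔ maximalIdeal O ^ c) (maximalIdeal O ^ c) := le_add_self
            _ = lenQ ⊤ (maximalIdeal O ^ c) := (lenQ_add le_sup_right le_top).symm
            _ = _ := lenQ_top _
        rw [lenQ_top, lenQ_top] at ea
        have h6 := ENat.toNat_le_toNat ((ea.le).trans (add_le_add le_rfl ec))
          (WithTop.add_ne_top.2 ⟨((hm.pow j).mono hle).length_ne_top, (hm.pow c).length_ne_top⟩)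
        rw [ENat.toNat_add ((hm.pow j).mono hle).length_ne_top (hm.pow c).length_ne_top] at h6
        exact h6
      rw [hR, eval_add, eval_sub, eval_C, taylor_eval, ← h1, ← h2, hs_eq_len (maximalIdeal O) c]
      rw [show ((j + 1 : ℕ) : ℚ) + -1 = (j : ℚ) by push_cast; ring, ← h3, e2, hs_eq_len, hs_eq_len]
      have : ((len (maximalIdeal O ^ j) : ℕ) : ℚ) + len (maximalIdeal O ^ (j + 1) ⊔ Ideal.span {x}) ≤
          len (maximalIdeal O ^ (j + 1)) + len (maximalIdeal O ^ c) := by
        exact_mod_cast (by omega : _ ≤ _)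
      linarith
    have hRdeg : R.natDegree ≤ d ∧ R.coeff d = ((d : ℚ) + 1) * P.coeff (d + 1) := by
      have hT : (taylor (-1 : ℚ) P).coeff (d + 1) = P.coeff (d + 1) := by
        rw [taylor_coeff, eq_C_of_natDegree_le_zero (p := hasseDeriv (d + 1) P)
          ((natDegree_hasseDeriv_le P (d + 1)).trans (by omega))]
        simp [hasseDeriv_coeff]
      constructor
      · rw [hR]
        refine natDegree_le_iff_coeff_eq_zero.2 fun N hN => ?_
        rw [coeff_add, coeff_sub, coeff_C, if_neg (by omega : N ≠ 0), add_zero]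
        rcases eq_or_lt_of_le (Nat.succ_le_of_lt hN) with h | h
        · rw [← h]; rw [hT, sub_self]
        · rw [coeff_eq_zero_of_natDegree_lt (by omega : P.natDegree < N),
            coeff_eq_zero_of_natDegree_lt (by rw [natDegree_taylor]; omega : (taylor (-1 : ℚ) P).natDegree < N), sub_self]
      · rw [hR, coeff_add, coeff_sub, coeff_C, if_neg (by omega : d ≠ 0), add_zero, taylor_coeff,
          eq_X_add_C_of_natDegree_le_one (p := hasseDeriv d P) ((natDegree_hasseDeriv_le P d).trans (by omega))]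
        simp only [eval_add, eval_mul, eval_C, eval_X, hasseDeriv_coeff, zero_add, Nat.choose_self,
          Nat.cast_one, one_mul, add_comm 1 d, Nat.choose_succ_self_right, Nat.cast_add]
        ring
    have hP'deg : P'.natDegree ≤ d :=
      (Groth.Ega41Dim.natDegree_le_of_eventually_le (Q := R) (by
        filter_upwards [hbd, hP'] with n h1 h2
        exact ⟨h2 ▸ Nat.cast_nonneg _, h1⟩)).trans hRdeg.1
    have hP'c : P'.coeff d ≤ ((d : ℚ) + 1) * P.coeff (d + 1) := (coeff_le hP'deg hRdeg.1 hbd).trans hRdeg.2.le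
    obtain ⟨N, hN⟩ := hI
    have hxN : x ^ N ∈ I := hN (Ideal.pow_mem_pow hx N)
    have hI' : ∀ i, Prim ((col I (x ^ i)).map mk) := fun i => hprim _ (Prim.mono ⟨N, hN⟩ (le_col I _))
    choose Qi hQi using fun i => exists_poly (hI' i)
    have hQdeg : ∀ i, (Qi i).natDegree ≤ d := fun i => natDegree_le (hI' i) hP' hP'deg (hQi i)
    set S : ℚ[X] := ∑ i ∈ Finset.range N, Qi i with hS
    have hXS : (X * S).natDegree ≤ d + 1 := by
      refine natDegree_mul_le.trans ?_
      rw [natDegree_X, add_comm]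
      exact Nat.add_le_add_right (natDegree_sum_le_of_forall_le _ _ fun i _ => hQdeg i) 1
    have hQS : ∀ᶠ n : ℕ in atTop, Q.eval (n : ℚ) ≤ (X * S).eval (n : ℚ) := by
      filter_upwards [hQ, (eventually_all_finset (Finset.range N)).2 fun i _ => hQi i, eventually_ge_atTop 1] with n h1 h2 h3
      rw [eval_mul, eval_X, hS, eval_finsetSum, ← h1, hs_eq_len]
      refine (Nat.cast_le.2 (len_pow_le ⟨N, hN⟩ x hxN (n := n) h3)).trans (le_of_eq ?_)
      push_cast
      congr 1
      refine Finset.sum_congr rfl fun i hi => ?_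
      rw [← h2 i hi, hs_eq_len, ← Ideal.map_pow, len_bar]
    refine (coeff_le (natDegree_le ⟨N, hN⟩ hP hdeg hQ) hXS hQS).trans ?_
    rw [coeff_X_mul, hS, finsetSum_coeff]
    have hlen : (len I : ℚ) = ∑ i ∈ Finset.range N, (len ((col I (x ^ i)).map mk) : ℚ) := by
      rw [len_tele ⟨N, hN⟩ x N, show col I (x ^ N) = ⊤ from (Ideal.eq_top_iff_one _).2 (by rw [mem_col, mul_one]; exact hxN),
        len_top, add_zero]
      push_cast
      exact Finset.sum_congr rfl fun i _ => by rw [len_bar]
    rw [hlen, Finset.mul_sum]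
    refine Finset.sum_le_sum fun i _ => (ih (O ⧸ Ideal.span {x}) P' hP' hP'deg _ (hI' i) _ (hQi i)).trans ?_
    rw [Nat.factorial_succ]
    push_cast
    have h1 := mul_le_mul_of_nonneg_left hP'c (Nat.cast_nonneg (α := ℚ) d.factorial)
    have h2 := mul_le_mul_of_nonneg_right h1 (Nat.cast_nonneg (α := ℚ) (len ((col I (x ^ i)).map mk)))
    linarith

end Groth.Lech
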