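import Mathlib.RingTheory.ReesAlgebra
import Mathlib.RingTheory.LocalRing.ResidueField.Basic
import Mathlib.RingTheory.Ideal.AssociatedPrime.Finiteness
import Mathlib.RingTheory.Ideal.AssociatedPrime.Localization
import Mathlib.RingTheory.Filtration
import Mathlib.RingTheory.Finiteness.Ideal
import Mathlib.RingTheory.Ideal.MinimalPrime.Noetherian

/-!
Superficial elements for the maximal ideal of a local ring with infinite residue field.
-/

set_option autoImplicit false
set_option linter.style.haveILetI false

universe u v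

open IsLocalRing Polynomial

namespace Groth.Lech

/-- avoiding finitely many proper submodules over a local ring with infinite residue field -/
theorem exists_notMem_all {O : Type u} [CommRing O] [IsLocalRing O] [Infinite (ResidueField O)]
    {V : Type v} [AddCommGroup V] [Module O V] {ι : Type*} (s : Finset ι) (N : ι → Submodule O V)
    (hN : ∀ i ∈ s, N i ≠ ⊤) : ∃ x : V, ∀ i ∈ s, x ∉ N i := by
  classical
  induction s using Finset.induction_on with
  | empty => exact ⟨0, by simp⟩
  | @insert i s hi ih =>
    obtain ⟨x, hx⟩ := ih fun j hj => hN j (Finset.mem_insert_of_mem hj)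
    by_cases hxi : x ∈ N i
    · obtain ⟨y, hy⟩ : ∃ y, y ∉ N i := not_forall.1 fun h => hN i (Finset.mem_insert_self _ _) (Submodule.eq_top_iff'.2 h)
      have hbad : ∀ j ∈ insert i s, {c : ResidueField O | ∃ a, residue O a = c ∧ a • y + x ∈ N j}.Subsingleton := by
        rintro j hj c ⟨a, rfl, ha⟩ c' ⟨b, rfl, hb⟩
        by_contra hne
        have hu : IsUnit (a - b) := notMem_maximalIdeal.1 fun h => hne (by
          rw [← sub_eq_zero, ← map_sub]; exact (residue_eq_zero_iff _).2 h)
        have h1 : (a - b) • y ∈ N j := by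
          have := (N j).sub_mem ha hb
          rwa [add_sub_add_right_eq_sub, ← sub_smul] at this
        have h2 : y ∈ N j := by
          have := (N j).smul_mem (hu.unit⁻¹ : Oˣ).1 h1
          rwa [← mul_smul, IsUnit.val_inv_mul, one_smul] at this
        rcases Finset.mem_insert.1 hj with rfl | hj'
        · exact hy h2
        · refine hx j hj' ?_
          have := (N j).sub_mem ha ((N j).smul_mem a h2)
          rwa [add_sub_cancel_left] at this
      have hfin : (⋃ j ∈ (↑(insert i s) : Set ι), {c : ResidueField O | ∃ a, residue O a = c ∧ a • y + x ∈ N j}).Finite :=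
        (insert i s).finite_toSet.biUnion fun j hj => (hbad j hj).finite
      obtain ⟨c, hc⟩ := hfin.exists_notMem
      obtain ⟨a, rfl⟩ := residue_surjective c
      exact ⟨a • y + x, fun j hj hmem => hc (Set.mem_biUnion hj ⟨a, rfl, hmem⟩)⟩
    · exact ⟨x, fun j hj => (Finset.mem_insert.1 hj).elim (fun h => h ▸ hxi) (hx j)⟩

/-- multiplication by an element avoiding the bad associated primes is injective in high degrees -/
theorem exists_pow_inf_ker {T : Type u} [CommRing T] [IsNoetherianRing T] {G : Type v} [AddCommGroup G]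
    [Module T G] [Module.Finite T G] (I : Ideal T) (a : T)
    (ha : ∀ P ∈ associatedPrimes T G, ¬ I ≤ P → a ∉ P) :
    ∃ c, ∀ j, c ≤ j → ∀ g ∈ (I ^ j • ⊤ : Submodule T G), a • g = 0 → g = 0 := by
  let K : Submodule T G := LinearMap.ker (LinearMap.lsmul T G a)
  haveI : Module.Finite T K := Module.Finite.iff_fg.2 (IsNoetherian.noetherian K)
  have hrad : I ≤ (Module.annihilator T K).radical := by
    rw [Ideal.radical_eq_sInf]
    refine le_sInf fun q ⟨hq, hqp⟩ => ?_
    obtain ⟨P, hP, hPq⟩ := Ideal.exists_minimalPrimes_le hq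
    have hass := Module.associatedPrimes.minimalPrimes_annihilator_subset_associatedPrimes T K hP
    obtain ⟨hPp, z, hz⟩ := isAssociatedPrime_iff_exists_injective_linearMap _ _ |>.1 hass
    have haP : a ∈ P := by
      refine (Submodule.Quotient.mk_eq_zero P).1 (hz ?_)
      rw [map_zero, show (Submodule.Quotient.mk a : T ⧸ P) = a • Submodule.Quotient.mk 1 by
        rw [← Submodule.Quotient.mk_smul, smul_eq_mul, mul_one], map_smul]
      exact Subtype.ext (LinearMap.mem_ker.1 (z (Submodule.Quotient.mk 1)).2)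
    refine le_trans ?_ hPq
    by_contra hT
    exact ha P (associatedPrimes.subset_of_injective (f := K.subtype) K.subtype_injective hass) hT haP
  obtain ⟨c₁, hc₁⟩ := Ideal.exists_pow_le_of_le_radical_of_fg_radical hrad (IsNoetherian.noetherian _)
  obtain ⟨c₂, hc₂⟩ := Ideal.exists_pow_inf_eq_pow_smul I K
  refine ⟨c₁ + c₂, fun j hj g hg hag => ?_⟩
  have h : g ∈ I ^ j • ⊤ ⊓ K := ⟨hg, hag⟩
  rw [hc₂ j (by omega)] at h
  refine (Submodule.mem_bot T).1 ((Submodule.smul_le.2 ?_ : I ^ (j - c₂) • (I ^ c₂ • ⊤ ⊓ K) ≤ ⊥) h)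
  rintro b hb g' ⟨-, hg'⟩
  exact congrArg Subtype.val (Module.mem_annihilator.1 (hc₁ (Ideal.pow_le_pow_right (by omega) hb)) ⟨g', hg'⟩)

variable {O : Type u} [CommRing O] [IsNoetherianRing O] [IsLocalRing O]

/-- a superficial element -/
theorem exists_superficial [Infinite (ResidueField O)] :
    ∃ x ∈ maximalIdeal O, ∃ c : ℕ, ∀ n : ℕ, ∀ y ∈ maximalIdeal O ^ c,
      x * y ∈ maximalIdeal O ^ (n + 1) → y ∈ maximalIdeal O ^ n := by
  classical
  set m := maximalIdeal O with hm
  let mono : m →ₗ[O] reesAlgebra m :=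
    { toFun := fun x => ⟨monomial 1 (x : O), reesAlgebra.monomial_mem.2 (by rw [pow_one]; exact x.2)⟩
      map_add' := fun a b => Subtype.ext (by simp)
      map_smul' := fun r a => Subtype.ext (smul_monomial r 1 (a : O)).symm }
  let mT : Ideal (reesAlgebra m) := m.map (algebraMap O (reesAlgebra m))
  let Tp : Ideal (reesAlgebra m) := Ideal.span (Set.range mono)
  have hmT : ∀ f ∈ mT, ∀ i, (f : O[X]).coeff i ∈ m ^ (i + 1) := by
    intro f hf
    induction hf using Submodule.span_induction with
    | mem f hf =>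
      obtain ⟨a, ha, rfl⟩ := hf
      intro i
      show (Polynomial.C a : O[X]).coeff i ∈ _
      rw [coeff_C]
      split_ifs with h
      · rw [h, zero_add, pow_one]; exact ha
      · exact Submodule.zero_mem _
    | zero => intro i; exact Submodule.zero_mem _
    | add a b _ _ ha hb =>
      intro i
      rw [Subalgebra.coe_add, coeff_add]
      exact Submodule.add_mem _ (ha i) (hb i)
    | smul c a _ ha =>
      intro i
      rw [smul_eq_mul, Subalgebra.coe_mul, coeff_mul]
      refine Submodule.sum_mem _ fun kl hkl => ?_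
      rw [← Finset.mem_antidiagonal.1 hkl, add_assoc, pow_add]
      exact Ideal.mul_mem_mul ((mem_reesAlgebra_iff _ _).1 c.2 _) (ha _)
  have hTp : ∀ (j : ℕ) (y : O) (hy : y ∈ m ^ j),
      (⟨monomial j y, reesAlgebra.monomial_mem.2 hy⟩ : reesAlgebra m) ∈ Tp ^ j := by
    intro j
    induction j with
    | zero => intro y hy; rw [pow_zero, Ideal.one_eq_top]; exact Submodule.mem_top
    | succ j ih =>
      intro y hy
      rw [pow_succ] at hy
      induction hy using Submodule.mul_induction_on' with
      | mem_mul_mem a ha b hb =>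
        rw [show (⟨monomial (j + 1) (a * b), _⟩ : reesAlgebra m) =
          ⟨monomial j a, reesAlgebra.monomial_mem.2 ha⟩ * mono ⟨b, hb⟩ from Subtype.ext (monomial_mul_monomial j 1 a b).symm]
        rw [pow_succ]
        exact Ideal.mul_mem_mul (ih a ha) (Ideal.subset_span ⟨_, rfl⟩)
      | add a ha b hb ha' hb' =>
        rw [show (⟨monomial (j + 1) (a + b), _⟩ : reesAlgebra m) =
          ⟨monomial (j + 1) a, reesAlgebra.monomial_mem.2 (by rw [pow_succ]; exact ha)⟩ +
            ⟨monomial (j + 1) b, reesAlgebra.monomial_mem.2 (by rw [pow_succ]; exact hb)⟩ from Subtype.ext (map_add _ a b)]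
        exact Submodule.add_mem _ (ha' (by rw [pow_succ]; exact ha)) (hb' (by rw [pow_succ]; exact hb))
  have hmT' : ∀ (j : ℕ) (y : O) (hy : y ∈ m ^ (j + 1)),
      (⟨monomial j y, reesAlgebra.monomial_mem.2 (Ideal.pow_le_pow_right j.le_succ hy)⟩ : reesAlgebra m) ∈ mT := by
    intro j y hy
    rw [pow_succ'] at hy
    induction hy using Submodule.mul_induction_on' with
    | mem_mul_mem a ha b hb =>
      rw [show (⟨monomial j (a * b), _⟩ : reesAlgebra m) =
        algebraMap O (reesAlgebra m) a * ⟨monomial j b, reesAlgebra.monomial_mem.2 hb⟩ from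
          Subtype.ext (C_mul_monomial (a := a) (b := b) (n := j)).symm]
      exact Ideal.mul_mem_right _ _ (Ideal.mem_map_of_mem _ ha)
    | add a ha b hb ha' hb' =>
      rw [show (⟨monomial j (a + b), _⟩ : reesAlgebra m) =
        ⟨monomial j a, reesAlgebra.monomial_mem.2 (Ideal.pow_le_pow_right j.le_succ (by rw [pow_succ']; exact ha))⟩ +
          ⟨monomial j b, reesAlgebra.monomial_mem.2 (Ideal.pow_le_pow_right j.le_succ (by rw [pow_succ']; exact hb))⟩
          from Subtype.ext (map_add _ a b)]
      exact Submodule.add_mem _ (ha' (by rw [pow_succ']; exact ha)) (hb' (by rw [pow_succ']; exact hb))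
  let bad := ((associatedPrimes.finite (reesAlgebra m) (reesAlgebra m ⧸ mT)).toFinset).filter fun P => ¬ Tp ≤ P
  obtain ⟨x, hx⟩ := exists_notMem_all bad (fun P => (P.restrictScalars O).comap mono) fun P hP h => by
    refine (Finset.mem_filter.1 hP).2 (Ideal.span_le.2 ?_)
    rintro _ ⟨z, rfl⟩
    exact (h.symm ▸ Submodule.mem_top : z ∈ (P.restrictScalars O).comap mono)
  refine ⟨x, x.2, ?_⟩
  obtain ⟨C, hC⟩ := exists_pow_inf_ker (G := reesAlgebra m ⧸ mT) Tp (mono x) fun P hP hT hxP =>
    hx P (Finset.mem_filter.2 ⟨(Set.Finite.mem_toFinset _).2 hP, hT⟩) hxP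
  refine ⟨C, fun n y hy hxy => ?_⟩
  have key : ∀ j, C ≤ j → j ≤ n → y ∈ m ^ j := by
    intro j hj
    induction j, hj using Nat.le_induction with
    | base => exact fun _ => hy
    | succ j hj ih =>
      intro hjn
      have hyj := ih (by omega)
      let Y : reesAlgebra m := ⟨monomial j y, reesAlgebra.monomial_mem.2 hyj⟩
      have h1 : mono x • (Submodule.Quotient.mk Y : reesAlgebra m ⧸ mT) = 0 := by
        rw [← Submodule.Quotient.mk_smul, Submodule.Quotient.mk_eq_zero]
        have e : mono x • Y = ⟨monomial (1 + j) ((x : O) * y),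
            reesAlgebra.monomial_mem.2 (Ideal.pow_le_pow_right (by omega) hxy)⟩ :=
          Subtype.ext (monomial_mul_monomial 1 j (x : O) y)
        rw [e]
        exact hmT' _ _ (Ideal.pow_le_pow_right (by omega) hxy)
      have h2 : (Submodule.Quotient.mk Y : reesAlgebra m ⧸ mT) ∈ Tp ^ j • (⊤ : Submodule (reesAlgebra m) (reesAlgebra m ⧸ mT)) := by
        rw [show (Submodule.Quotient.mk Y : reesAlgebra m ⧸ mT) = Y • Submodule.Quotient.mk 1 by
          rw [← Submodule.Quotient.mk_smul, smul_eq_mul, mul_one]]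
        exact Submodule.smul_mem_smul (hTp j y hyj) Submodule.mem_top
      have h3 : (Submodule.Quotient.mk Y : reesAlgebra m ⧸ mT) = 0 := hC j hj _ h2 h1
      have h4 := hmT Y ((Submodule.Quotient.mk_eq_zero _).1 h3) j
      simpa [Y] using h4
  rcases le_total C n with h | h
  · exact key n h le_rfl
  · exact Ideal.pow_le_pow_right h hy

end Groth.Lech
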